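import Cfsg.Agent.H830.B57.Defs

/-!
# S5717, A2: bases in product action (helper870)
-/

set_option autoImplicit false

namespace Cfsg.Agent.H870.B57

open Cfsg.Agent.H830.B57

/-- A2 (wr): bases in product action; `X` = disjoint union of the coordinate sets over `I`. -/
theorem wr {G I X Ω : Type} [Group G] [MulAction G I] [MulAction G X] [MulAction G Ω] [Finite I]
    [Finite X] (π : X → I) (hπ : ∀ (g : G) (x : X), π (g • x) = g • π x) (ev : Ω → I → X)
    (hev : ∀ ω i, π (ev ω i) = i)
    (hsurj : ∀ s : I → X, (∀ i, π (s i) = i) → ∃ ω, ev ω = s) (hinj : Function.Injective ev)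
    (heq : ∀ (g : G) (ω : Ω) (i : I), ev (g • ω) (g • i) = g • ev ω i) (htr : MulAction.IsPretransitive G I)
    (i0 : I) (b : ℕ) (B : Finset X) (hB : ∀ x ∈ B, π x = i0) (hBc : B.card ≤ b)
    (hbase : ∀ g : G, g • i0 = i0 → (∀ x ∈ B, g • x = x) → ∀ x : X, π x = i0 → g • x = x)
    (hne : ∃ x y : X, x ≠ y ∧ π x = i0 ∧ π y = i0) (c : ℕ) (F : I → Fin c)
    (hF : ∀ g : G, (∀ i : I, F (g • i) = F i) → ∀ i : I, g • i = i) :
    BaseLE G Ω (b + Nat.clog 2 c) := by
  classical
  obtain ⟨x0, y0, hxy, hx0, hy0⟩ := hne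
  choose k hk using fun i : I => htr.exists_smul_eq i0 i
  have hsec : ∀ u : I → X, (∀ i, π (u i) = i0) → ∃ ω, ev ω = fun i => k i • u i := fun u hu =>
    hsurj _ fun i => by rw [hπ, hu, hk]
  have hf : ∀ x : X, ∃ ω, π x = i0 → ev ω = fun i => k i • x := by
    intro x
    by_cases hx : π x = i0
    · obtain ⟨ω, hω⟩ := hsec (fun _ => x) fun _ => hx
      exact ⟨ω, fun _ => hω⟩
    · obtain ⟨ω, -⟩ := hsec (fun _ => x0) fun _ => hx0
      exact ⟨ω, fun h => absurd h hx⟩
  choose f hf using hf
  -- the bits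
  let u : ℕ → I → X := fun l i => if (F i : ℕ).testBit l then x0 else y0
  have hu : ∀ l i, π (u l i) = i0 := by
    intro l i
    show π (if (F i : ℕ).testBit l then x0 else y0) = i0
    split_ifs
    exacts [hx0, hy0]
  choose w hw using fun l : ℕ => hsec (u l) (hu l)
  refine ⟨B.image f ∪ (Finset.range (Nat.clog 2 c)).image w, ?_, ?_⟩
  · refine (Finset.card_union_le _ _).trans (add_le_add (Finset.card_image_le.trans hBc) ?_)
    exact Finset.card_image_le.trans (Finset.card_range _).le
  intro g hg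
  have key : ∀ ω, g • ω = ω → ∀ i, ev ω (g • i) = g • ev ω i := by
    intro ω hω i
    have h1 := heq g ω i
    rwa [hω] at h1
  -- the elements `h i = (k (g i))⁻¹ g (k i)`
  have h0 : ∀ i, ((k (g • i))⁻¹ * g * k i) • i0 = i0 := by
    intro i
    rw [mul_smul, hk, mul_smul, inv_smul_eq_iff, hk]
  have h1 : ∀ i, ∀ x ∈ B, ((k (g • i))⁻¹ * g * k i) • x = x := by
    intro i x hx
    have h2 := key (f x) (hg _ (Finset.mem_union_left _ (Finset.mem_image_of_mem _ hx))) i
    rw [hf x (hB x hx)] at h2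
    have h3 : k (g • i) • x = g • k i • x := h2
    rw [mul_smul, mul_smul, inv_smul_eq_iff, h3]
  have h2 : ∀ i, ∀ x, π x = i0 → ((k (g • i))⁻¹ * g * k i) • x = x := fun i => hbase _ (h0 i) (h1 i)
  have hFg : ∀ i, F (g • i) = F i := by
    intro i
    apply Fin.ext
    apply Nat.eq_of_testBit_eq
    intro l
    by_cases hl : l < Nat.clog 2 c
    · have h3 := key (w l) (hg _ (Finset.mem_union_right _ (Finset.mem_image_of_mem _ (Finset.mem_range.2 hl)))) i
      rw [hw l] at h3
      have h4 : k (g • i) • u l (g • i) = g • k i • u l i := h3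
      have h5 := h2 i (u l i) (hu l i)
      rw [mul_smul, mul_smul, inv_smul_eq_iff, ← h4] at h5
      have h6 : u l (g • i) = u l i := smul_left_cancel _ h5
      have h7 : (if (F (g • i) : ℕ).testBit l then x0 else y0) = if (F i : ℕ).testBit l then x0 else y0 := h6
      by_cases ha : (F (g • i) : ℕ).testBit l <;> by_cases hb : (F i : ℕ).testBit l
      · rw [ha, hb]
      · rw [if_pos ha, if_neg hb] at h7
        exact absurd h7 hxy
      · rw [if_neg ha, if_pos hb] at h7
        exact absurd h7.symm hxy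
      · rw [Bool.not_eq_true] at ha hb
        rw [ha, hb]
    · have h3 : ∀ j : Fin c, (j : ℕ).testBit l = false := by
        intro j
        apply Nat.testBit_lt_two_pow
        calc (j : ℕ) < c := j.2
          _ ≤ 2 ^ Nat.clog 2 c := Nat.le_pow_clog (by norm_num) c
          _ ≤ 2 ^ l := Nat.pow_le_pow_right (by norm_num) (not_lt.1 hl)
      rw [h3, h3]
  have hgi := hF g hFg
  have hgx : ∀ x : X, g • x = x := by
    intro x
    have h3 : π ((k (π x))⁻¹ • x) = i0 := by rw [hπ, inv_smul_eq_iff, hk]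
    have h4 := h2 (π x) _ h3
    rw [hgi, mul_smul, mul_smul, inv_smul_eq_iff, smul_inv_smul] at h4
    exact h4
  intro ω
  apply hinj
  funext i
  have h3 := heq g ω i
  rw [hgi, hgx] at h3
  exact h3

end Cfsg.Agent.H870.B57
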